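import Groth.Agent.H11Strict.Residual
import Groth.Agent.H11Strict.Admissible
import Groth.Agent.H7Flat.Flatten.Birat
import Mathlib

/-!
# Preliminaries for separating closed subsets of several compactifications
-/

set_option autoImplicit false
set_option linter.style.haveILetI false
set_option backward.isDefEq.respectTransparency false
set_option maxHeartbeats 1000000

universe u

open AlgebraicGeometry CategoryTheory Limits TopologicalSpace

namespace Groth.Agent.H8Blow

/-- A finite fibre product of proper schemes is proper over the base. -/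
theorem isProper_widePullback_base {S : Scheme.{u}} : ∀ (m : ℕ) (X : Fin m → Scheme.{u}) (g : ∀ i, X i ⟶ S),
    (∀ i, IsProper (g i)) → IsProper (WidePullback.base g) := by
  intro m
  induction m with
  | zero =>
    intro X g _
    haveI : IsIso (WidePullback.base g) :=
      ⟨WidePullback.lift (𝟙 S) (fun i => i.elim0) (fun i => i.elim0),
        WidePullback.hom_ext _ _ _ (fun i => i.elim0) (by simp), by simp⟩
    infer_instance
  | succ m ih =>
    intro X g hg
    haveI := ih (fun i => X i.succ) (fun i => g i.succ) (fun i => hg i.succ)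
    haveI := hg 0
    let P := pullback (g 0) (WidePullback.base fun i : Fin m => g i.succ)
    let φ : widePullback S X g ⟶ P := pullback.lift (WidePullback.π g 0)
      (WidePullback.lift (WidePullback.base g) (fun i => WidePullback.π g i.succ)
        (fun i => WidePullback.π_arrow g i.succ))
      (by rw [WidePullback.π_arrow, WidePullback.lift_base])
    let ψ : P ⟶ widePullback S X g := WidePullback.lift (pullback.fst _ _ ≫ g 0)
      (Fin.cases (pullback.fst _ _) fun i => pullback.snd _ _ ≫ WidePullback.π (fun i : Fin m => g i.succ) i)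
      (Fin.cases rfl fun i => by
        simp only [Fin.cases_succ, Category.assoc]
        rw [WidePullback.π_arrow, ← pullback.condition])
    haveI : IsIso φ := by
      refine ⟨ψ, ?_, ?_⟩
      · refine WidePullback.hom_ext _ _ _ (Fin.cases ?_ fun i => ?_) ?_
        all_goals simp [φ, ψ]
      · refine pullback.hom_ext ?_ ?_
        · simp [φ, ψ]
        · refine WidePullback.hom_ext _ _ _ (fun i => ?_) ?_
          · simp [φ, ψ]
          · simp [φ, ψ, pullback.condition]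
    have e : WidePullback.base g = φ ≫ pullback.fst _ _ ≫ g 0 := by
      rw [pullback.lift_fst_assoc, WidePullback.π_arrow]
    rw [e]
    infer_instance

/-- The complement of the support of a finite type ideal is quasi-compact. -/
theorem isCompact_compl_support {X : Scheme.{u}} [CompactSpace X] {I : X.IdealSheafData}
    (hI : BlowUp.IsFiniteTypeIdeal I) : IsCompact ((I.support : Set X))ᶜ := by
  classical
  obtain ⟨s, hs, hseq⟩ := isCompact_iff_finite_and_eq_biUnion_affineOpens.1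
    (show IsCompact ((⊤ : X.Opens) : Set X) from isCompact_univ)
  choose t ht using fun A : X.affineOpens => hI A
  have hmem : ∀ (A : X.affineOpens) (x : X), x ∈ A.1 →
      (x ∉ (I.support : Set X) ↔ ∃ r ∈ t A, x ∈ X.basicOpen r) := fun A x hx => by
    rw [SetLike.mem_coe, Scheme.IdealSheafData.mem_support_iff_of_mem hx, ← ht A, Scheme.zeroLocus_span,
      Scheme.mem_zeroLocus_iff]
    simp
  have e : ((I.support : Set X))ᶜ = ⋃ A ∈ s, ⋃ r ∈ t A, (X.basicOpen r : Set X) := by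
    ext x
    simp only [Set.mem_compl_iff, Set.mem_iUnion]
    constructor
    · intro hx
      obtain ⟨A, hA, hxA⟩ : ∃ A ∈ s, x ∈ A.1 := by
        have h : x ∈ (⨆ A ∈ s, (A : X.Opens)) := hseq.le (Opens.mem_top x)
        simpa [Opens.mem_iSup] using h
      obtain ⟨r, hr, hxr⟩ := (hmem A x hxA).1 hx
      exact ⟨A, hA, r, hr, hxr⟩
    · rintro ⟨A, -, r, hr, hxr⟩
      exact (hmem A x (X.basicOpen_le r hxr)).2 ⟨r, hr, hxr⟩
  rw [e]
  exact hs.isCompact_biUnion fun A _ => (t A).finite_toSet.isCompact_biUnion fun r _ =>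
    (A.2.basicOpen r).isCompact

/-- A finite open cover of a quasi-compact scheme shrinks to quasi-compact opens. -/
theorem exists_compact_shrink {X : Scheme.{u}} [CompactSpace X] {ι : Type} [Finite ι] (C : ι → Set X)
    (hC : ∀ i, IsOpen (C i)) (hcov : ∀ x, ∃ i, x ∈ C i) :
    ∃ O : ι → X.Opens, (∀ i, IsCompact (O i : Set X)) ∧ (∀ i, (O i : Set X) ⊆ C i) ∧ ∀ x, ∃ i, x ∈ O i := by
  classical
  have h : ∀ x, ∃ (A : X.Opens) (i : ι), IsAffineOpen A ∧ x ∈ A ∧ (A : Set X) ⊆ C i := fun x => by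
    obtain ⟨i, hi⟩ := hcov x
    obtain ⟨A, hA, hxA, hAC⟩ := exists_isAffineOpen_mem_and_subset (U := ⟨C i, hC i⟩) hi
    exact ⟨A, i, hA, hxA, hAC⟩
  choose A j hA hxA hAC using h
  obtain ⟨F, hF⟩ := isCompact_univ.elim_finite_subcover (fun x => (A x : Set X)) (fun x => (A x).2)
    (fun x _ => Set.mem_iUnion.mpr ⟨x, hxA x⟩)
  refine ⟨fun i => ⨆ x ∈ F.filter (fun x => j x = i), A x, fun i => ?_, fun i y hy => ?_, fun x => ?_⟩
  · simp only [Opens.coe_iSup]
    exact (Finset.finite_toSet _).isCompact_biUnion fun x _ => (hA x).isCompact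
  · obtain ⟨x, hx⟩ := Opens.mem_iSup.mp hy
    obtain ⟨hxF, hyx⟩ := Opens.mem_iSup.mp hx
    rw [← (Finset.mem_filter.mp hxF).2]
    exact hAC x hyx
  · obtain ⟨y, hy, hxy⟩ := Set.mem_iUnion₂.mp (hF (Set.mem_univ x))
    exact ⟨j y, Opens.mem_iSup.mpr ⟨y, Opens.mem_iSup.mpr ⟨Finset.mem_filter.mpr ⟨hy, rfl⟩, hxy⟩⟩⟩

/-- Dividing ideals by the divisor they add up to leaves ideals without a common zero. -/
theorem exists_residual {X : Scheme.{u}} {ι : Type} (E : X.IdealSheafData) (J : ι → X.IdealSheafData)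
    (hE : BlowUp.IsEffCartierIdeal E) (hJ : ⨆ i, J i = E) :
    ∃ R : ι → X.IdealSheafData, (∀ i, (J i).support = E.support ⊔ (R i).support) ∧
      ∀ x, ∃ i, x ∉ (R i).support := by
  choose R hR using fun i => H11Strict.exists_eq_mul hE ((le_iSup J i).trans_eq hJ)
  refine ⟨R, fun i => by rw [← hR i, Scheme.IdealSheafData.support_mul], fun x => ?_⟩
  by_contra hx
  push Not at hx
  obtain ⟨V, hxV, -, a, ha, haV⟩ := H29Blow.exists_gen hE (W := ⊤) (x := x) trivial
  have h1 : Ideal.span {a} * ⨆ i, (R i).ideal V = Ideal.span {a} * ⊤ := by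
    rw [Ideal.mul_top, ← haV, Ideal.mul_iSup]
    conv_rhs => rw [← hJ, Scheme.IdealSheafData.ideal_iSup, iSup_apply]
    exact iSup_congr fun i => by rw [← hR i, Scheme.IdealSheafData.ideal_mul, Pi.mul_apply]
  have h2 : (⨆ i, (R i).ideal V) = ⊤ := by
    rw [Ideal.eq_top_iff_one]
    obtain ⟨c, hc, hca⟩ := Ideal.mem_span_singleton_mul.mp (h1.ge
      (by rw [Ideal.mul_top]; exact Ideal.mem_span_singleton_self a))
    have : c = 1 := (mem_nonZeroDivisors_iff_right.mp ha (c - 1) (by rw [sub_mul, one_mul, mul_comm, hca, sub_self]) |> sub_eq_zero.mp)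
    rwa [this] at hc
  have h3 : x ∈ (⨆ i, R i).support := by
    rw [Scheme.IdealSheafData.support_iSup]
    exact Closeds.mem_iInf.mpr hx
  rw [Scheme.IdealSheafData.mem_support_iff_of_mem hxV, Scheme.IdealSheafData.ideal_iSup, iSup_apply, h2,
    Scheme.mem_zeroLocus_iff] at h3
  exact h3 1 Submodule.mem_top (by rw [X.basicOpen_of_isUnit isUnit_one]; exact hxV)

/-- A proper map over an open identifies the closures of a common dense open over the two pieces. -/
theorem mem_range_of_mem_closure {S X X₁ X₂ Y₁ Y₂ U P : Scheme.{u}} (gX : X ⟶ S)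
    (g₁ : Y₁ ⟶ S) (g₂ : Y₂ ⟶ S) [IsSeparated g₂]
    (o₁ : X₁ ⟶ Y₁) (o₂ : X₂ ⟶ Y₂) [IsOpenImmersion o₁]
    (q₁ : X₁ ⟶ X) (q₂ : X₂ ⟶ X) [IsProper q₂] (hq₁ : q₁ ≫ gX = o₁ ≫ g₁) (hq₂ : q₂ ≫ gX = o₂ ≫ g₂)
    (v₁ : U ⟶ X₁) (v₂ : U ⟶ X₂) (hv : v₁ ≫ q₁ = v₂ ≫ q₂) (γ : U ⟶ P) (p₁ : P ⟶ Y₁) (p₂ : P ⟶ Y₂)
    (hp : p₁ ≫ g₁ = p₂ ≫ g₂) (h₁ : γ ≫ p₁ = v₁ ≫ o₁) (h₂ : γ ≫ p₂ = v₂ ≫ o₂)
    (z : P) (hz : z ∈ closure (Set.range γ)) (hz₁ : p₁ z ∈ Set.range o₁) : p₂ z ∈ Set.range o₂ := by
  let m : pullback (o₁ ≫ g₁) g₂ ⟶ pullback g₁ g₂ :=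
    pullback.lift (pullback.fst _ _ ≫ o₁) (pullback.snd _ _) (by rw [Category.assoc, pullback.condition])
  let k : pullback q₁ q₂ ⟶ pullback (o₁ ≫ g₁) g₂ :=
    pullback.lift (pullback.fst _ _) (pullback.snd _ _ ≫ o₂) (by
      rw [← hq₁, Category.assoc, ← hq₂, pullback.condition_assoc])
  haveI : IsProper (k ≫ pullback.fst (o₁ ≫ g₁) g₂) := by rw [pullback.lift_fst]; infer_instance
  haveI : IsProper k := IsProper.of_comp k (pullback.fst (o₁ ≫ g₁) g₂)
  haveI : IsOpenImmersion m := by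
    have e : m = pullback.map _ _ g₁ g₂ o₁ (𝟙 _) (𝟙 _) (by simp) (by simp) :=
      pullback.hom_ext (by simp [m]) (by simp [m])
    rw [e]; infer_instance
  let a : P ⟶ pullback g₁ g₂ := pullback.lift p₁ p₂ hp
  have ha : ∀ t, a (γ t) = m (k (pullback.lift v₁ v₂ hv t)) := fun t => by
    have e : γ ≫ a = pullback.lift v₁ v₂ hv ≫ k ≫ m :=
      pullback.hom_ext (by simp [a, k, m, h₁]) (by simp [a, k, m, h₂])
    rw [← Scheme.Hom.comp_apply, e, Scheme.Hom.comp_apply, Scheme.Hom.comp_apply]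
  obtain ⟨w, hw⟩ : a z ∈ Set.range m := by
    obtain ⟨x₁, hx₁⟩ := hz₁
    have hr : Set.range (pullback.map (o₁ ≫ g₁) g₂ g₁ g₂ o₁ (𝟙 _) (𝟙 _) (by simp) (by simp)) =
        (pullback.fst g₁ g₂) ⁻¹' Set.range o₁ ∩ (pullback.snd g₁ g₂) ⁻¹' Set.range (𝟙 Y₂) :=
      Scheme.Pullback.range_map _ _ _ _ _ _ _ _ _
    rw [show m = pullback.map _ _ g₁ g₂ o₁ (𝟙 _) (𝟙 _) (by simp) (by simp) from
      pullback.hom_ext (by simp [m]) (by simp [m]), hr]
    refine ⟨⟨x₁, ?_⟩, ⟨p₂ z, ?_⟩⟩
    · rw [← Scheme.Hom.comp_apply, pullback.lift_fst, hx₁]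
    · show p₂ z = _
      rw [← Scheme.Hom.comp_apply, pullback.lift_snd]
  have hwc : w ∈ closure (Set.range k) := by
    refine closure_mono ?_ ((m.isOpenEmbedding.isOpenMap.preimage_closure_eq_closure_preimage m.continuous
      (a '' Set.range γ)).subset ?_)
    · rintro y ⟨_, ⟨t, rfl⟩, ht⟩
      exact ⟨_, m.isOpenEmbedding.injective ((ha t).symm.trans ht)⟩
    · show m w ∈ closure (a '' Set.range γ)
      rw [hw]
      exact image_closure_subset_closure_image a.continuous ⟨z, hz, rfl⟩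
  rw [k.isClosedMap.isClosed_range.closure_eq] at hwc
  obtain ⟨y, hy⟩ := hwc
  refine ⟨pullback.snd q₁ q₂ y, ?_⟩
  have e1 : p₂ z = pullback.snd g₁ g₂ (a z) := by rw [← Scheme.Hom.comp_apply, pullback.lift_snd]
  rw [e1, ← hw, ← hy, ← Scheme.Hom.comp_apply, ← Scheme.Hom.comp_apply, ← Scheme.Hom.comp_apply]
  simp [k, m]

end Groth.Agent.H8Blow
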