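import Groth.Agent.H7Flat.Flatten.Glue2
import Groth.Agent.H7Flat.Flatten.NagataB
import Groth.Agent.H8Blow.QuasiDomBlowUp
import Mathlib

/-!
# Gluing two schemes that quasi-dominate each other
-/

set_option autoImplicit false
set_option linter.style.haveILetI false
set_option backward.isDefEq.respectTransparency false
set_option maxHeartbeats 1000000

universe u

open AlgebraicGeometry CategoryTheory Limits TopologicalSpace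
open Groth.Agent.H7Flat.Flatten

namespace Groth.Agent.H8Blow

/-- The part of a quasi-domination landing where the reverse one is defined is mapped back identically. -/
theorem exists_back {S X₁ X₂ U : Scheme.{u}} (p₁ : X₁ ⟶ S) (p₂ : X₂ ⟶ S) [IsSeparated p₁]
    (j₁ : U ⟶ X₁) (j₂ : U ⟶ X₂) [IsSchemeTheoreticallyDominant j₁] [QuasiCompact j₁]
    (W₁ : X₁.Opens) (φ : (W₁ : Scheme.{u}) ⟶ X₂) (hφ : W₁.ι ≫ p₁ = φ ≫ p₂)
    (k₁ : U ⟶ (W₁ : Scheme.{u})) (hk₁ : k₁ ≫ W₁.ι = j₁) (hk₁' : k₁ ≫ φ = j₂)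
    (W₂ : X₂.Opens) (ψ : (W₂ : Scheme.{u}) ⟶ X₁) (hψ : W₂.ι ≫ p₂ = ψ ≫ p₁)
    (k₂ : U ⟶ (W₂ : Scheme.{u})) (hk₂ : k₂ ≫ W₂.ι = j₂) (hk₂' : k₂ ≫ ψ = j₁) :
    ∃ φ' : ((φ ⁻¹ᵁ W₂ : (W₁ : Scheme.{u}).Opens) : Scheme.{u}) ⟶ (ψ ⁻¹ᵁ W₁ : (W₂ : Scheme.{u}).Opens),
      φ' ≫ (ψ ⁻¹ᵁ W₁).ι ≫ W₂.ι = (φ ⁻¹ᵁ W₂).ι ≫ φ ∧ φ' ≫ (ψ ⁻¹ᵁ W₁).ι ≫ ψ = (φ ⁻¹ᵁ W₂).ι ≫ W₁.ι ∧
      ∃ l : U ⟶ ((φ ⁻¹ᵁ W₂ : (W₁ : Scheme.{u}).Opens) : Scheme.{u}), l ≫ (φ ⁻¹ᵁ W₂).ι = k₁ := by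
  let T := φ ⁻¹ᵁ W₂
  have hkT : Set.range k₁ ⊆ Set.range T.ι := by
    rw [Scheme.Opens.range_ι]
    rintro _ ⟨t, rfl⟩
    show φ (k₁ t) ∈ W₂
    rw [← Scheme.Hom.comp_apply, hk₁', ← hk₂, Scheme.Hom.comp_apply]
    exact (k₂ t).2
  let l := IsOpenImmersion.lift T.ι k₁ hkT
  have hl : l ≫ T.ι = k₁ := IsOpenImmersion.lift_fac _ _ _
  haveI : IsSchemeTheoreticallyDominant (k₁ ≫ W₁.ι) := by rw [hk₁]; infer_instance
  haveI : QuasiCompact (k₁ ≫ W₁.ι) := by rw [hk₁]; infer_instance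
  haveI : IsSchemeTheoreticallyDominant k₁ := schDominant_of_comp_ι W₁ k₁
  haveI : QuasiCompact k₁ := QuasiCompact.of_comp k₁ W₁.ι
  haveI : IsSchemeTheoreticallyDominant (l ≫ T.ι) := by rw [hl]; infer_instance
  haveI : QuasiCompact (l ≫ T.ι) := by rw [hl]; infer_instance
  haveI : IsSchemeTheoreticallyDominant l := schDominant_of_comp_ι T l
  let m : (T : Scheme.{u}) ⟶ (W₂ : Scheme.{u}) := φ ∣_ W₂
  have hm : m ≫ W₂.ι = T.ι ≫ φ := morphismRestrict_ι _ _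
  have hback : m ≫ ψ = T.ι ≫ W₁.ι := by
    refine hom_ext_of_schDominant l p₁ _ _ ?_ ?_
    · rw [Category.assoc, ← hψ, ← Category.assoc, hm, Category.assoc, ← hφ, Category.assoc]
    · rw [← Category.assoc l T.ι, hl, hk₁, ← Category.assoc l m,
        show l ≫ m = k₂ by rw [← cancel_mono W₂.ι, Category.assoc, hm, ← Category.assoc, hl, hk₁', hk₂], hk₂']
  have hle : Set.range m ⊆ Set.range (ψ ⁻¹ᵁ W₁).ι := by
    rw [Scheme.Opens.range_ι]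
    rintro _ ⟨t, rfl⟩
    show ψ (m t) ∈ W₁
    rw [← Scheme.Hom.comp_apply, hback, Scheme.Hom.comp_apply]
    exact (T.ι t).2
  refine ⟨IsOpenImmersion.lift (ψ ⁻¹ᵁ W₁).ι m hle, ?_, ?_, l, hl⟩
  · rw [IsOpenImmersion.lift_fac_assoc, hm]
  · rw [IsOpenImmersion.lift_fac_assoc, hback]

/-- Two separated schemes quasi-dominating each other glue. -/
theorem exists_mutual_glue {S X₁ X₂ U : Scheme.{u}} [IsNoetherian S]
    (p₁ : X₁ ⟶ S) (p₂ : X₂ ⟶ S) [IsSeparated p₁] [QuasiCompact p₁] [LocallyOfFiniteType p₁]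
    [IsSeparated p₂] [QuasiCompact p₂] [LocallyOfFiniteType p₂]
    (j₁ : U ⟶ X₁) (j₂ : U ⟶ X₂) [IsOpenImmersion j₁] [IsOpenImmersion j₂]
    [IsSchemeTheoreticallyDominant j₁] [IsSchemeTheoreticallyDominant j₂]
    (W₁ : X₁.Opens) (φ : (W₁ : Scheme.{u}) ⟶ X₂) (hφ : W₁.ι ≫ p₁ = φ ≫ p₂)
    (hφc : IsClosed (Set.range (fun w => (pullback.lift W₁.ι φ hφ) w)))
    (k₁ : U ⟶ (W₁ : Scheme.{u})) (hk₁ : k₁ ≫ W₁.ι = j₁) (hk₁' : k₁ ≫ φ = j₂)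
    (W₂ : X₂.Opens) (ψ : (W₂ : Scheme.{u}) ⟶ X₁) (hψ : W₂.ι ≫ p₂ = ψ ≫ p₁)
    (hψc : IsClosed (Set.range (fun w => (pullback.lift W₂.ι ψ hψ) w)))
    (k₂ : U ⟶ (W₂ : Scheme.{u})) (hk₂ : k₂ ≫ W₂.ι = j₂) (hk₂' : k₂ ≫ ψ = j₁) :
    ∃ (Y : Scheme.{u}) (q : Y ⟶ S) (i₁ : X₁ ⟶ Y) (i₂ : X₂ ⟶ Y), IsSeparated q ∧ QuasiCompact q ∧
      LocallyOfFiniteType q ∧ IsOpenImmersion i₁ ∧ IsOpenImmersion i₂ ∧ i₁ ≫ q = p₁ ∧ i₂ ≫ q = p₂ ∧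
      j₁ ≫ i₁ = j₂ ≫ i₂ ∧ QuasiCompact (j₁ ≫ i₁) ∧ IsSchemeTheoreticallyDominant (j₁ ≫ i₁) := by
  haveI : IsLocallyNoetherian X₁ := LocallyOfFiniteType.isLocallyNoetherian p₁
  haveI : CompactSpace X₁ := QuasiCompact.compactSpace_of_compactSpace p₁
  haveI : CompactSpace X₂ := QuasiCompact.compactSpace_of_compactSpace p₂
  haveI : IsNoetherian X₁ := ⟨⟩
  haveI : CompactSpace U := isCompact_univ_iff.mp (by
    rw [j₁.isOpenEmbedding.isEmbedding.isCompact_iff]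
    exact NoetherianSpace.isCompact _)
  haveI : QuasiSeparatedSpace X₁ := quasiSeparatedSpace_of_quasiSeparated p₁
  haveI : QuasiSeparatedSpace X₂ := quasiSeparatedSpace_of_quasiSeparated p₂
  haveI : QuasiCompact j₁ := QuasiCompact.of_comp j₁ (terminal.from _)
  haveI : QuasiCompact j₂ := QuasiCompact.of_comp j₂ (terminal.from _)
  obtain ⟨φ', hφ₂, hφ₁, l, hl⟩ := exists_back p₁ p₂ j₁ j₂ W₁ φ hφ k₁ hk₁ hk₁' W₂ ψ hψ k₂ hk₂ hk₂'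
  obtain ⟨ψ', hψ₁, hψ₂, -⟩ := exists_back p₂ p₁ j₂ j₁ W₂ ψ hψ k₂ hk₂ hk₂' W₁ φ hφ k₁ hk₁ hk₁'
  haveI : IsIso φ' := by
    refine ⟨ψ', ?_, ?_⟩
    · rw [← cancel_mono ((φ ⁻¹ᵁ W₂).ι ≫ W₁.ι), Category.assoc, Category.id_comp, hψ₁, ← hφ₁]
    · rw [← cancel_mono ((ψ ⁻¹ᵁ W₁).ι ≫ W₂.ι), Category.assoc, Category.id_comp, hφ₂, ← hψ₂]
  let T := φ ⁻¹ᵁ W₂
  let a : (T : Scheme.{u}) ⟶ X₁ := T.ι ≫ W₁.ι
  let b : (T : Scheme.{u}) ⟶ X₂ := T.ι ≫ φ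
  haveI : IsOpenImmersion b := by
    have e : b = φ' ≫ (ψ ⁻¹ᵁ W₁).ι ≫ W₂.ι := hφ₂.symm
    rw [e]; infer_instance
  have hab : a ≫ p₁ = b ≫ p₂ := by simp only [a, b, Category.assoc, hφ]
  have hcl : IsClosed (Set.range (pullback.lift a b hab)) := by
    let sw := (pullbackSymmetry p₂ p₁).hom
    have e₁ : pullback.lift a b hab = T.ι ≫ pullback.lift W₁.ι φ hφ := by
      apply pullback.hom_ext <;> simp [a, b]
    have e₂ : pullback.lift a b hab = φ' ≫ (ψ ⁻¹ᵁ W₁).ι ≫ pullback.lift W₂.ι ψ hψ ≫ sw := by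
      apply pullback.hom_ext
      · simp [a, sw, hφ₁, T]
      · simp [b, sw, hφ₂, T]
    have hr : Set.range (pullback.lift a b hab) =
        Set.range (pullback.lift W₁.ι φ hφ) ∩ sw '' Set.range (pullback.lift W₂.ι ψ hψ) := by
      refine Set.Subset.antisymm ?_ ?_
      · rintro _ ⟨t, rfl⟩
        refine ⟨⟨T.ι t, ?_⟩, _, ⟨(ψ ⁻¹ᵁ W₁).ι (φ' t), rfl⟩, ?_⟩
        · rw [e₁, Scheme.Hom.comp_apply]
        · rw [e₂, Scheme.Hom.comp_apply, Scheme.Hom.comp_apply, Scheme.Hom.comp_apply]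
      · rintro _ ⟨⟨w, rfl⟩, _, ⟨w', rfl⟩, hw⟩
        have h : φ w = W₂.ι w' := by
          have h' := congrArg (pullback.snd p₁ p₂) hw
          rw [← Scheme.Hom.comp_apply, ← Scheme.Hom.comp_apply, ← Scheme.Hom.comp_apply] at h'
          simpa [sw] using h'.symm
        have hwT : w ∈ T := by
          show φ w ∈ W₂
          rw [h]
          exact w'.2
        exact ⟨⟨w, hwT⟩, by rw [e₁, Scheme.Hom.comp_apply]; rfl⟩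
    rw [hr]
    exact hφc.inter (sw.homeomorph.isClosedEmbedding.isClosedMap _ hψc)
  obtain ⟨Y, q, i₁, i₂, hq₁, hq₂, hq₃, hi₁, hi₂, hi₁q, hi₂q, hglue, hcov, -⟩ :=
    exists_glue_pair a b p₁ p₂ hab hcl
  haveI := hq₁; haveI := hi₁; haveI := hi₂
  haveI : QuasiSeparatedSpace Y := quasiSeparatedSpace_of_quasiSeparated q
  haveI : QuasiCompact i₁ := QuasiCompact.of_comp i₁ (terminal.from _)
  haveI : QuasiCompact i₂ := QuasiCompact.of_comp i₂ (terminal.from _)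
  have hj : j₁ ≫ i₁ = j₂ ≫ i₂ := by
    rw [← hk₁, ← hl, show (l ≫ T.ι) ≫ W₁.ι = l ≫ a from Category.assoc _ _ _, Category.assoc, hglue,
      ← hk₁', ← hl]
    simp only [b, Category.assoc, T]
  refine ⟨Y, q, i₁, i₂, hq₁, hq₃, hq₂, hi₁, hi₂, hi₁q, hi₂q, hj, inferInstance, ⟨?_⟩⟩
  have h₁ : (j₁ ≫ i₁).ker = i₁.ker := by
    rw [Scheme.Hom.ker_comp, j₁.ker_eq_bot, Scheme.IdealSheafData.map_bot]
  have h₂ : (j₁ ≫ i₁).ker = i₂.ker := by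
    rw [hj, Scheme.Hom.ker_comp, j₂.ker_eq_bot, Scheme.IdealSheafData.map_bot]
  refine eq_bot_iff.mpr fun V s hs => ?_
  rw [Scheme.IdealSheafData.ideal_bot]
  refine (Submodule.mem_bot _).mpr (TopCat.Presheaf.section_ext Y.sheaf V.1 s 0 fun x hx => ?_)
  have hs₁ : i₁.app V.1 s = 0 := by
    have h := h₁ ▸ hs
    rwa [Scheme.Hom.ker_apply] at h
  have hs₂ : i₂.app V.1 s = 0 := by
    have h := h₂ ▸ hs
    rwa [Scheme.Hom.ker_apply] at h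
  rw [map_zero]
  show Y.presheaf.germ V.1 x hx s = 0
  rcases (hcov.symm.subset (Set.mem_univ x) : x ∈ Set.range i₁ ∪ Set.range i₂) with ⟨y, rfl⟩ | ⟨y, rfl⟩
  · refine (ConcreteCategory.bijective_of_isIso (i₁.stalkMap y)).1 ?_
    rw [Scheme.Hom.germ_stalkMap_apply, hs₁, map_zero, map_zero]
  · refine (ConcreteCategory.bijective_of_isIso (i₂.stalkMap y)).1 ?_
    rw [Scheme.Hom.germ_stalkMap_apply, hs₂, map_zero, map_zero]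

end Groth.Agent.H8Blow
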