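import Groth.Agent.H7Flat.Flatten.Common
import Groth.Agent.H7Flat.Flatten.NagataB
import Groth.Agent.H11Strict.ClosedImm
import Mathlib

/-!
# Extending a quasi-domination after an admissible blow-up
-/

set_option autoImplicit false
set_option linter.style.haveILetI false
set_option backward.isDefEq.respectTransparency false
set_option maxHeartbeats 1000000

universe u

open AlgebraicGeometry CategoryTheory Limits TopologicalSpace HTop
open Groth.Agent.H7Flat.Flatten

namespace Groth.Agent.H8Blow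

/-- An open of the base over which a section fills everything is a locus of isomorphism. -/
theorem isIso_restrict_of_range {A Z X : Scheme.{u}} (o : A ⟶ Z) [IsOpenImmersion o] (q : Z ⟶ X) (V : X.Opens)
    (i : A ≅ (V : Scheme.{u})) (h : o ≫ q = i.hom ≫ V.ι) (hr : ∀ x, q x ∈ V → x ∈ Set.range o) :
    IsIso (q ∣_ V) := by
  have hle : Set.range o ⊆ Set.range (q ⁻¹ᵁ V).ι := by
    rw [Scheme.Opens.range_ι]
    rintro _ ⟨t, rfl⟩
    show q (o t) ∈ V
    rw [← Scheme.Hom.comp_apply, h]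
    exact (i.hom t).2
  let l := IsOpenImmersion.lift (q ⁻¹ᵁ V).ι o hle
  have hl : l ≫ (q ⁻¹ᵁ V).ι = o := IsOpenImmersion.lift_fac _ _ _
  haveI : IsOpenImmersion (l ≫ (q ⁻¹ᵁ V).ι) := by rw [hl]; infer_instance
  haveI : IsOpenImmersion l := IsOpenImmersion.of_comp l (q ⁻¹ᵁ V).ι
  haveI : Surjective l := ⟨fun x => by
    obtain ⟨t, ht⟩ := hr ((q ⁻¹ᵁ V).ι x) x.2
    refine ⟨t, (q ⁻¹ᵁ V).ι.isOpenEmbedding.injective ?_⟩
    rw [← Scheme.Hom.comp_apply, hl, ht]⟩
  haveI : IsIso l := (isIso_iff_isOpenImmersion_and_epi_base l).mpr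
    ⟨inferInstance, (TopCat.epi_iff_surjective _).mpr l.surjective⟩
  haveI : IsIso (l ≫ (q ∣_ V)) := by
    rw [show l ≫ (q ∣_ V) = i.hom by
      rw [← cancel_mono V.ι, Category.assoc, morphismRestrict_ι, ← Category.assoc, hl, h]]
    infer_instance
  exact IsIso.of_isIso_comp_left l (q ∣_ V)

/-- A quasi-domination extends, after an admissible blow-up, to a closed graph. -/
theorem exists_quasiDomination_extension {S X Y : Scheme.{u}} [CompactSpace S] [QuasiSeparatedSpace S]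
    [CompactSpace X] [QuasiSeparatedSpace X] [CompactSpace Y]
    (pX : X ⟶ S) (pY : Y ⟶ S) [IsSeparated pY] [LocallyOfFiniteType pY]
    (U V : X.Opens) (hUV : U ≤ V) (hU : IsCompact (U : Set X)) (hV : IsCompact (V : Set X))
    (hUd : Dense (U : Set X))
    (f : (U : Scheme.{u}) ⟶ Y) (hf : U.ι ≫ pX = f ≫ pY)
    (hcl : closure (Set.range (fun x => pullback.lift U.ι f hf x)) ∩
        ((pullback.fst pX pY) ⁻¹ᵁ V : Set ↥(pullback pX pY)) ⊆ Set.range (fun x => pullback.lift U.ι f hf x)) :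
    ∃ (𝓘 : X.IdealSheafData) (Xt : Scheme.{u}) (q : Xt ⟶ X),
      BlowUp.IsBlowUp q 𝓘 ∧ BlowUp.IsAdmissibleFor V 𝓘 ∧
      ∃ (W : Xt.Opens) (hle : q ⁻¹ᵁ U ≤ W) (ft : (W : Scheme.{u}) ⟶ Y) (hft : W.ι ≫ q ≫ pX = ft ≫ pY),
        Dense (W : Set Xt) ∧ Xt.homOfLE hle ≫ ft = (q ∣_ U) ≫ f ∧
        IsClosed (Set.range (fun x => pullback.lift W.ι ft hft x)) := by
  haveI : CompactSpace (U : Scheme.{u}) := isCompact_iff_compactSpace.mp hU
  haveI : CompactSpace (V : Scheme.{u}) := isCompact_iff_compactSpace.mp hV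
  haveI : QuasiCompact pY := QuasiCompact.of_comp pY (terminal.from _)
  haveI : QuasiCompact V.ι := H11Strict.quasiCompact_ι V hV
  let γ : (U : Scheme.{u}) ⟶ pullback pX pY := pullback.lift U.ι f hf
  haveI : QuasiSeparatedSpace ↥(pullback pX pY) := quasiSeparatedSpace_of_quasiSeparated (pullback.fst pX pY)
  haveI : QuasiCompact γ := QuasiCompact.of_comp γ (terminal.from _)
  haveI : IsSchemeTheoreticallyDominant γ.toImage := ⟨H17.ker_toImage γ⟩
  let φ := γ.imageι ≫ pullback.fst pX pY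
  let u := γ.toImage
  have huφ : u ≫ φ = U.ι := by
    rw [← Category.assoc, γ.toImage_imageι]; exact pullback.lift_fst _ _ _
  haveI : IsIso (φ ∣_ U) := isIso_restrict_of_dominant u φ U.ι huφ (Scheme.Opens.opensRange_ι U)
  haveI : IsOpenImmersion u := by
    have e : u = inv (φ ∣_ U) ≫ (φ ⁻¹ᵁ U).ι := by
      refine eq_of_mono_restrict φ U _ _ ?_ ?_
      · rw [huφ, Category.assoc, ← morphismRestrict_ι, IsIso.inv_hom_id_assoc]
      · rw [huφ, Scheme.Opens.range_ι]
    rw [e]; infer_instance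
  have hVu : ∀ x, φ x ∈ V → x ∈ Set.range u := by
    intro x hx
    have h1 : γ.imageι x ∈ closure (Set.range γ) := by
      rw [← Scheme.Hom.support_ker, ← Scheme.IdealSheafData.range_subschemeι]
      exact ⟨x, rfl⟩
    obtain ⟨t, ht⟩ := hcl ⟨h1, hx⟩
    refine ⟨t, γ.imageι.isClosedEmbedding.injective ?_⟩
    rw [← Scheme.Hom.comp_apply, γ.toImage_imageι]
    exact ht
  let a := X.homOfLE hUV
  have hab : u ≫ φ = a ≫ V.ι := by rw [huφ, Scheme.homOfLE_ι]
  have hglue : IsClosed (Set.range (pullback.lift u a hab)) := by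
    have hs : Function.Surjective (pullback.lift u a hab) := fun w => by
      have hw : φ (pullback.fst φ V.ι w) ∈ V := by
        rw [← Scheme.Hom.comp_apply, pullback.condition]
        exact (pullback.snd φ V.ι w).2
      obtain ⟨t, ht⟩ := hVu _ hw
      refine ⟨t, (pullback.fst φ V.ι).isOpenEmbedding.injective ?_⟩
      rw [← Scheme.Hom.comp_apply, pullback.lift_fst, ht]
    rw [hs.range_eq]
    exact isClosed_univ
  obtain ⟨Zp, qp, oA, oB, hqs, hqf, hqc, hoA, hoB, hqA, hqB, hgl, hcov, -⟩ :=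
    exists_glue_pair u a φ V.ι hab hglue
  haveI := hqs
  haveI := hqf
  haveI := hqc
  haveI := hoA
  haveI := hoB
  have hVB : ∀ x, qp x ∈ V → x ∈ Set.range oB := by
    intro x hx
    rcases (hcov.symm.subset (Set.mem_univ x) : x ∈ Set.range oA ∪ Set.range oB) with ⟨y, rfl⟩ | h
    · rw [← Scheme.Hom.comp_apply, hqA] at hx
      obtain ⟨t, rfl⟩ := hVu y hx
      exact ⟨a t, by rw [← Scheme.Hom.comp_apply, ← Scheme.Hom.comp_apply, hgl]⟩
    · exact h
  haveI : IsIso (qp ∣_ V) := isIso_restrict_of_range oB qp V (Iso.refl _) (by simp [hqB]) hVB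
  obtain ⟨𝓘, Xt, b, hb, hadm, hI, hopen⟩ := exists_openImmersion_blowup qp V hV
  refine ⟨𝓘, Xt, b, hb, hadm, ?_⟩
  haveI := isProper_blowUp hadm.1 hb
  have hc := IsPullback.of_hasPullback qp b
  let s := (supportedOn ((𝓘.comap qp).comap (pullback.fst qp b))).subschemeι
  let g := s ≫ pullback.snd qp b
  let r := s ≫ pullback.fst qp b
  haveI : IsOpenImmersion g := hopen _ _ _ hc
  haveI : IsProper r := inferInstance
  have hrg : r ≫ qp = g ≫ b := by simp only [r, g, Category.assoc, pullback.condition]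
  let O := oA.opensRange
  let T₀ := r ⁻¹ᵁ O
  let e : (T₀ : Scheme.{u}) ⟶ γ.image := (r ∣_ O) ≫ oA.isoOpensRange.inv
  haveI : IsProper e := inferInstance
  have he : e ≫ oA = T₀.ι ≫ r := by
    rw [Category.assoc, Scheme.Hom.isoOpensRange_inv_comp, morphismRestrict_ι]
  have heφ : e ≫ φ = (T₀.ι ≫ g) ≫ b := by
    rw [← hqA, ← Category.assoc, he, Category.assoc, hrg]
    simp only [g, Category.assoc]
  let j := T₀.ι ≫ g
  let i := j.isoOpensRange
  have hi : i.inv ≫ j = j.opensRange.ι := Scheme.Hom.isoOpensRange_inv_comp _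
  let ft : (j.opensRange : Scheme.{u}) ⟶ Y := i.inv ≫ e ≫ γ.imageι ≫ pullback.snd pX pY
  have hft : j.opensRange.ι ≫ b ≫ pX = ft ≫ pY :=
    calc j.opensRange.ι ≫ b ≫ pX = (i.inv ≫ j) ≫ b ≫ pX := by rw [hi]
      _ = i.inv ≫ (j ≫ b) ≫ pX := by simp only [Category.assoc]
      _ = i.inv ≫ (e ≫ φ) ≫ pX := by rw [heφ]
      _ = ft ≫ pY := by simp only [ft, φ, Category.assoc, pullback.condition]
  haveI : IsIso (g ∣_ (b ⁻¹ᵁ awayFrom 𝓘)) :=
    property_strict_restrict (P := MorphismProperty.isomorphisms Scheme) hc 𝓘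
      (show IsIso (qp ∣_ awayFrom 𝓘) by rw [hI]; infer_instance)
  have hib : i.inv ≫ T₀.ι ≫ g ≫ b = j.opensRange.ι ≫ b := by
    rw [← hi]; simp only [j, Category.assoc]
  have hle : b ⁻¹ᵁ U ≤ j.opensRange := by
    intro y hy
    have hyV : y ∈ b ⁻¹ᵁ awayFrom 𝓘 := by rw [hI]; exact hUV hy
    obtain ⟨w, hw⟩ := (g ∣_ (b ⁻¹ᵁ awayFrom 𝓘)).surjective ⟨y, hyV⟩
    have hgw : g ((g ⁻¹ᵁ (b ⁻¹ᵁ awayFrom 𝓘)).ι w) = y := by
      rw [← Scheme.Hom.comp_apply, ← morphismRestrict_ι, Scheme.Hom.comp_apply, hw]; rfl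
    set w' := (g ⁻¹ᵁ (b ⁻¹ᵁ awayFrom 𝓘)).ι w
    have hqr : qp (r w') = b y := by rw [← Scheme.Hom.comp_apply, hrg, Scheme.Hom.comp_apply, hgw]
    obtain ⟨v, hv⟩ := hVB (r w') (by rw [hqr]; exact hUV hy)
    have hvU : v.1 ∈ U := by
      have h2 : qp (oB v) = b y := by rw [hv, hqr]
      rw [← Scheme.Hom.comp_apply, hqB] at h2
      show V.ι v ∈ U
      rw [h2]; exact hy
    have hmem : w' ∈ T₀ := by
      refine ⟨u ⟨v.1, hvU⟩, ?_⟩
      rw [← Scheme.Hom.comp_apply, hgl, Scheme.Hom.comp_apply, ← hv]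
      exact congrArg oB (Subtype.ext (Scheme.homOfLE_apply _ _))
    exact ⟨⟨w', hmem⟩, hgw⟩
  refine ⟨j.opensRange, hle, ft, hft, ?_, ?_, ?_⟩
  · haveI := schDominant_awayFrom hb.1
    haveI : IsAffineHom (awayFrom (𝓘.comap b)).ι := H11Strict.isAffineHom_compl hb.1
    have hd : Dense ((b ⁻¹ᵁ V : Xt.Opens) : Set Xt) := by
      have h := (awayFrom (𝓘.comap b)).ι.denseRange
      rw [DenseRange, Scheme.Opens.range_ι, H18HTop.awayFrom_comap, hI] at h
      exact h
    refine Dense.mono (fun y hy => hle hy) (dense_iff_inter_open.mpr fun O' hO' hne => ?_)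
    obtain ⟨y, hyO, hyV⟩ := hd.inter_open_nonempty O' hO' hne
    haveI : IsIso (b ∣_ V) :=
      H29Blow.isIso_morphismRestrict hb V fun x hx hx' => Set.disjoint_left.mp hadm.2 hx' hx
    let P : Set X := V.ι '' ((b ∣_ V) '' ((b ⁻¹ᵁ V).ι ⁻¹' O'))
    have hP : IsOpen P := V.ι.isOpenEmbedding.isOpenMap _
      ((b ∣_ V).isOpenEmbedding.isOpenMap _ (hO'.preimage (b ⁻¹ᵁ V).ι.continuous))
    obtain ⟨x, ⟨v, ⟨z, hz, rfl⟩, rfl⟩, hxU⟩ :=
      hUd.inter_open_nonempty P hP ⟨_, _, ⟨⟨y, hyV⟩, hyO, rfl⟩, rfl⟩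
    refine ⟨(b ⁻¹ᵁ V).ι z, hz, ?_⟩
    show b ((b ⁻¹ᵁ V).ι z) ∈ U
    rw [← Scheme.Hom.comp_apply, ← morphismRestrict_ι]
    exact hxU
  · have key : Xt.homOfLE hle ≫ i.inv ≫ e = (b ∣_ U) ≫ u := by
      refine eq_of_mono_restrict φ U _ _ ?_ ?_
      · simp only [Category.assoc, heφ, huφ]
        rw [hib, morphismRestrict_ι, Scheme.homOfLE_ι_assoc]
      · simp only [Category.assoc, heφ]
        rw [hib, Scheme.homOfLE_ι_assoc]
        rintro _ ⟨z, rfl⟩
        exact z.2
    have h2 := congrArg (· ≫ γ.imageι ≫ pullback.snd pX pY) key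
    simp only [Category.assoc] at h2
    rw [show u ≫ γ.imageι ≫ pullback.snd pX pY = f by
      rw [γ.toImage_imageι_assoc]; exact pullback.lift_snd _ _ _] at h2
    exact h2
  · let m : pullback (b ≫ pX) pY ⟶ pullback pX pY :=
      pullback.lift (pullback.fst _ _ ≫ b) (pullback.snd _ _) (by rw [Category.assoc, pullback.condition])
    let G : (T₀ : Scheme.{u}) ⟶ pullback (b ≫ pX) pY :=
      pullback.lift j (e ≫ γ.imageι ≫ pullback.snd pX pY) (by
        have h' := congrArg (· ≫ pX) heφ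
        simp only [φ, Category.assoc, pullback.condition] at h'
        simp only [j, Category.assoc, h'])
    haveI : IsSeparated (m ≫ pullback.fst pX pY) := by
      rw [show m ≫ pullback.fst pX pY = pullback.fst _ _ ≫ b from pullback.lift_fst _ _ _]
      infer_instance
    haveI : IsSeparated m := IsSeparated.of_comp m (pullback.fst pX pY)
    have hm : G ≫ m = e ≫ γ.imageι := by
      apply pullback.hom_ext
      · simp [G, m, j, φ] at heφ ⊢
        exact heφ.symm
      · simp [G, m]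
    haveI : IsProper (G ≫ m) := by rw [hm]; infer_instance
    haveI : IsProper G := IsProper.of_comp G m
    have hG : pullback.lift j.opensRange.ι ft hft = i.inv ≫ G := by
      apply pullback.hom_ext
      · simp [G, hi]
      · simp [G, ft]
    rw [hG]
    have hr : Set.range (fun x => (i.inv ≫ G) x) = Set.range G := by
      ext y
      constructor
      · rintro ⟨x, rfl⟩
        exact ⟨i.inv x, (Scheme.Hom.comp_apply _ _ _).symm⟩
      · rintro ⟨t, rfl⟩
        refine ⟨i.hom t, ?_⟩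
        show (i.inv ≫ G) (i.hom t) = G t
        rw [← Scheme.Hom.comp_apply, Iso.hom_inv_id_assoc]
    rw [hr]
    exact G.isClosedMap.isClosed_range

end Groth.Agent.H8Blow
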