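import Groth.Agent.H8Blow.SeparatePrelim
import Groth.Agent.H7Flat.Flatten.Common
import Mathlib

/-!
# Separating closed subsets of several compactifications by admissible blow-ups
-/

set_option autoImplicit false
set_option linter.style.haveILetI false
set_option backward.isDefEq.respectTransparency false
set_option maxHeartbeats 1000000

universe u

open AlgebraicGeometry CategoryTheory Limits TopologicalSpace
open Groth.Agent.H7Flat.Flatten

namespace Groth.Agent.H8Blow

/-- A finite type ideal on an open subscheme extends. -/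
theorem exists_ideal_extension {V X : Scheme.{u}} [CompactSpace X] [QuasiSeparatedSpace X] (o : V ⟶ X)
    [IsOpenImmersion o] [CompactSpace V] (I : V.IdealSheafData) (hI : BlowUp.IsFiniteTypeIdeal I) :
    ∃ J : X.IdealSheafData, BlowUp.IsFiniteTypeIdeal J ∧
      (J.support : Set X) ∩ Set.range o = o '' (I.support : Set V) := by
  let L := I.comap o.isoOpensRange.inv
  obtain ⟨J, hJ, hJo⟩ := H11Strict.exists_admissible_extension ⊥ o.opensRange
    (by simp) (isCompact_range o.continuous) L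
    ⟨H11Strict.isFiniteTypeIdeal_comap _ hI, by
      rw [show o.opensRange.ι ⁻¹ᵁ (⊥ : X.Opens) = ⊥ from rfl, Opens.coe_bot]
      exact Set.disjoint_empty _⟩
  have hJI : J.comap o = I := by
    rw [← Scheme.Hom.isoOpensRange_hom_ι o, Scheme.IdealSheafData.comap_comp, hJo,
      ← Scheme.IdealSheafData.comap_comp, Iso.hom_inv_id, Scheme.IdealSheafData.comap_id]
  refine ⟨J, hJ.1, ?_⟩
  have h : (I.support : Set V) = o ⁻¹' (J.support : Set X) := by
    rw [← hJI, Scheme.IdealSheafData.support_comap]; rfl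
  rw [h, Set.image_preimage_eq_inter_range]

/-- Finitely many finite type ideals add up to a finite type ideal. -/
theorem isFiniteTypeIdeal_iSup {X : Scheme.{u}} {m : ℕ} (J : Fin m → X.IdealSheafData)
    (hJ : ∀ i, BlowUp.IsFiniteTypeIdeal (J i)) : BlowUp.IsFiniteTypeIdeal (⨆ i, J i) := fun A => by
  rw [Scheme.IdealSheafData.ideal_iSup, iSup_apply]
  exact Submodule.fg_iSup _ fun i => hJ i A

theorem exists_separating_blowUps {S X U : Scheme.{u}} [CompactSpace S] [QuasiSeparatedSpace S] {m : ℕ}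
    (gX : X ⟶ S) [QuasiCompact gX]
    (Xi Xb : Fin m → Scheme.{u}) (gb : ∀ i, Xb i ⟶ S) [∀ i, IsProper (gb i)]
    (o : ∀ i, Xi i ⟶ Xb i) [∀ i, IsOpenImmersion (o i)] [∀ i, QuasiCompact (o i)]
    (q : ∀ i, Xi i ⟶ X) [∀ i, IsProper (q i)] (hq : ∀ i, q i ≫ gX = o i ≫ gb i)
    (jU : U ⟶ X) [QuasiCompact jU]
    (v : ∀ i, U ⟶ Xi i)
    (hv : ∀ i, v i ≫ q i = jU) (w : ∀ i, (v i ≫ o i) ≫ gb i = jU ≫ gX)
    (Y : ∀ i, (Xi i).IdealSheafData) (hY : ∀ i, BlowUp.IsFiniteTypeIdeal (Y i))
    (hempty : ∀ z ∈ closure (Set.range (fun x => (WidePullback.lift (jU ≫ gX) (fun i => v i ≫ o i) w) x)),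
      ∃ i, (WidePullback.π gb i) z ∉ (fun x => o i x) '' ((Y i).support : Set (Xi i))) :
    ∃ (𝓔 : ∀ i, (Xb i).IdealSheafData) (Xb' : Fin m → Scheme.{u}) (c : ∀ i, Xb' i ⟶ Xb i)
      (v' : ∀ i, U ⟶ Xb' i) (w' : ∀ i, v' i ≫ c i ≫ gb i = jU ≫ gX),
      (∀ i, BlowUp.IsBlowUp (c i) (𝓔 i) ∧ BlowUp.IsAdmissibleFor (o i).opensRange (𝓔 i) ∧
        v' i ≫ c i = v i ≫ o i) ∧
      ∀ z ∈ closure (Set.range (fun x => (WidePullback.lift (jU ≫ gX) (fun i => v' i) w') x)),
        ∃ i, (WidePullback.π (fun i => c i ≫ gb i) i) z ∉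
          closure ((fun y => c i y) ⁻¹' ((fun x => o i x) '' ((Y i).support : Set (Xi i)))) := by
  classical
  let W := widePullback S Xb gb
  let γ : U ⟶ W := WidePullback.lift (jU ≫ gX) (fun i => v i ≫ o i) w
  haveI hbase : IsProper (WidePullback.base gb) := isProper_widePullback_base m Xb gb fun i => inferInstance
  haveI : CompactSpace ↥W := QuasiCompact.compactSpace_of_compactSpace (WidePullback.base gb)
  haveI : QuasiSeparatedSpace ↥W := quasiSeparatedSpace_of_quasiSeparated (WidePullback.base gb)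
  haveI : CompactSpace X := QuasiCompact.compactSpace_of_compactSpace gX
  haveI : CompactSpace U := QuasiCompact.compactSpace_of_compactSpace jU
  haveI : ∀ i, CompactSpace (Xb i) := fun i => QuasiCompact.compactSpace_of_compactSpace (gb i)
  haveI : ∀ i, QuasiSeparatedSpace (Xb i) := fun i => quasiSeparatedSpace_of_quasiSeparated (gb i)
  haveI : ∀ i, CompactSpace (Xi i) := fun i => QuasiCompact.compactSpace_of_compactSpace (o i)
  haveI : QuasiCompact γ := QuasiCompact.of_comp γ (terminal.from _)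
  let Z := γ.image
  haveI : CompactSpace ↥Z := QuasiCompact.compactSpace_of_compactSpace γ.imageι
  haveI : QuasiSeparatedSpace ↥Z := quasiSeparatedSpace_of_quasiSeparated γ.imageι
  let π : ∀ i, Z ⟶ Xb i := fun i => γ.imageι ≫ WidePullback.π gb i
  have hZcl : ∀ z : Z, γ.imageι z ∈ closure (Set.range γ) := fun z => by
    rw [← Scheme.Hom.support_ker, ← Scheme.IdealSheafData.range_subschemeι]
    exact ⟨z, rfl⟩
  -- extend the closed subschemes
  choose 𝒵 h𝒵ft h𝒵 using fun i => exists_ideal_extension (o i) (Y i) (hY i)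
  let B : Z.IdealSheafData := ⨆ i, (𝒵 i).comap (π i)
  have hBft : BlowUp.IsFiniteTypeIdeal B :=
    isFiniteTypeIdeal_iSup _ fun i => H11Strict.isFiniteTypeIdeal_comap _ (h𝒵ft i)
  have hBmem : ∀ z ∈ (B.support : Set Z), ∀ i, π i z ∈ ((𝒵 i).support : Set (Xb i)) := fun z hz i => by
    rw [SetLike.mem_coe, Scheme.IdealSheafData.support_iSup] at hz
    have h := Closeds.mem_iInf.mp hz i
    rw [Scheme.IdealSheafData.support_comap] at h
    exact h
  have hout : ∀ z : Z, ∀ i, π i z ∈ Set.range (o i) → z ∉ (B.support : Set Z) := fun z i hi hz => by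
    obtain ⟨j, hj⟩ := hempty (γ.imageι z) (hZcl z)
    refine hj ((h𝒵 j).subset ⟨hBmem z hz j, ?_⟩)
    exact mem_range_of_mem_closure gX (gb i) (gb j) (o i) (o j) (q i) (q j) (hq i) (hq j) (v i) (v j)
      (by rw [hv, hv]) γ (WidePullback.π gb i) (WidePullback.π gb j)
      (by rw [WidePullback.π_arrow, WidePullback.π_arrow]) (WidePullback.lift_π _ _ _ _ _)
      (WidePullback.lift_π _ _ _ _ _) (γ.imageι z) (hZcl z) hi
  -- blow up their intersection on the closure
  obtain ⟨Z', d, hd⟩ := H26Blow.exists_isBlowUp B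
  haveI := isProper_blowUp hBft hd
  haveI : CompactSpace Z' := QuasiCompact.compactSpace_of_compactSpace d
  haveI : QuasiSeparatedSpace Z' := quasiSeparatedSpace_of_quasiSeparated d
  have hgc := (Scheme.IdealSheafData.map_gc d).l_iSup (f := fun i => (𝒵 i).comap (π i))
  obtain ⟨R, hR, hRe⟩ := exists_residual (B.comap d) (fun i => ((𝒵 i).comap (π i)).comap d) hd.1 hgc.symm
  obtain ⟨O, hOc, hOR, hOcov⟩ := exists_compact_shrink (fun i => ((R i).support : Set Z')ᶜ)
    (fun i => (R i).support.2.isOpen_compl) hRe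
  let p : ∀ i, Z' ⟶ Xb i := fun i => d ≫ π i
  haveI : ∀ i, QuasiCompact (p i) := fun i => QuasiCompact.of_comp (p i) (terminal.from _)
  have hoc : ∀ i, IsCompact ((o i).opensRange : Set (Xb i)) := fun i => isCompact_range (o i).continuous
  have hsep : ∀ i, ∀ x ∈ O i, p i x ∈ (o i).opensRange → p i x ∉ ((𝒵 i).support : Set (Xb i)) := by
    intro i x hx hxo hxZ
    have h1 : x ∈ (((𝒵 i).comap (π i)).comap d).support := by
      rw [← Scheme.IdealSheafData.comap_comp, Scheme.IdealSheafData.support_comap]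
      exact hxZ
    rw [hR i] at h1
    rcases h1 with h1 | h1
    · rw [Scheme.IdealSheafData.support_comap] at h1
      refine hout (d x) i ?_ h1
      exact hxo
    · exact hOR i hx h1
  choose 𝓔 h𝓔ft h𝓔s h𝓔 using fun i => H11Strict.exists_centre (p i) (o i).opensRange (hoc i)
    ((𝒵 i).support : Set (Xb i)) (𝒵 i).support.2 (isCompact_compl_support (h𝒵ft i)) (O i) (hOc i) (hsep i)
  choose Xb' c hc using fun i => H26Blow.exists_isBlowUp (𝓔 i)
  haveI : ∀ i, IsProper (c i) := fun i => isProper_blowUp (h𝓔ft i) (hc i)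
  have hadm : ∀ i, BlowUp.IsAdmissibleFor (o i).opensRange (𝓔 i) := fun i =>
    ⟨h𝓔ft i, Set.disjoint_left.mpr fun x hx hxo => (h𝓔s i hx).2 hxo⟩
  choose v' hv' using fun i => exists_lift_of_disjoint (hc i) (v i ≫ o i)
    (Set.disjoint_left.mpr fun x hx hx' => (h𝓔s i hx').2 (by
      obtain ⟨t, rfl⟩ := hx
      exact ⟨v i t, (Scheme.Hom.comp_apply _ _ _).symm⟩))
  have w' : ∀ i, v' i ≫ c i ≫ gb i = jU ≫ gX := fun i => by rw [← Category.assoc, hv', w]
  refine ⟨𝓔, Xb', c, v', w', fun i => ⟨hc i, hadm i, hv' i⟩, fun z hz => ?_⟩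
  by_contra hne
  push Not at hne
  let γ' : U ⟶ widePullback S Xb' (fun i => c i ≫ gb i) := WidePullback.lift (jU ≫ gX) (fun i => v' i) w'
  let C : widePullback S Xb' (fun i => c i ≫ gb i) ⟶ W :=
    WidePullback.lift (WidePullback.base _) (fun i => WidePullback.π (fun i => c i ≫ gb i) i ≫ c i)
      (fun i => by rw [Category.assoc, WidePullback.π_arrow (fun i => c i ≫ gb i) i])
  have hγC : γ' ≫ C = γ := by
    refine WidePullback.hom_ext _ _ _ (fun i => ?_) ?_
    · simp [γ', C, γ, hv']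
    · simp [γ', C, γ]
  have hUd : Disjoint (Set.range γ.toImage) (B.support : Set Z) := by
    rw [Set.disjoint_left]
    rintro _ ⟨t, rfl⟩ ht
    obtain ⟨j, -⟩ := hempty (γ t) (subset_closure ⟨t, rfl⟩)
    refine hout _ j ?_ ht
    refine ⟨v j t, ?_⟩
    rw [← Scheme.Hom.comp_apply, ← Scheme.Hom.comp_apply, γ.toImage_imageι_assoc, WidePullback.lift_π]
  obtain ⟨ud, hud⟩ := exists_lift_of_disjoint hd γ.toImage hUd
  let e : Z' ⟶ W := d ≫ γ.imageι
  have hue : ud ≫ e = γ := by rw [← Category.assoc, hud, γ.toImage_imageι]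
  let σ : U ⟶ pullback e C := pullback.lift ud γ' (hue.trans hγC.symm)
  obtain ⟨y, hy, rfl⟩ : z ∈ pullback.snd e C '' closure (Set.range σ) := by
    refine ((pullback.snd e C).isClosedMap _ isClosed_closure).closure_subset_iff.mpr ?_ hz
    rintro _ ⟨t, rfl⟩
    exact ⟨σ t, subset_closure ⟨t, rfl⟩, by rw [← Scheme.Hom.comp_apply, pullback.lift_snd]⟩
  obtain ⟨i, hi⟩ := hOcov (pullback.fst e C y)
  have hsq : pullback.fst e C ≫ p i =
      (pullback.snd e C ≫ WidePullback.π (fun i => c i ≫ gb i) i) ≫ c i := by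
    have h := congrArg (· ≫ WidePullback.π gb i) (pullback.condition (f := e) (g := C))
    simpa [e, p, π, C] using h
  refine h𝓔 i (Xb' i) (c i) (hc i).1 _ (pullback.fst e C)
    (pullback.snd e C ≫ WidePullback.π (fun i => c i ≫ gb i) i) hsq y hi ?_ ?_
  · have hi' := hne i
    rw [← h𝒵 i] at hi'
    rw [Scheme.Hom.comp_apply]
    exact hi'
  · refine closure_mono ?_ ((pullback.fst e C ⁻¹ᵁ O i).2.inter_closure ⟨hi, hy⟩)
    rintro _ ⟨hx, t, rfl⟩
    refine ⟨hx, v i t, ?_⟩
    have h : σ ≫ pullback.fst e C ≫ p i = v i ≫ o i := by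
      rw [pullback.lift_fst_assoc]
      show ud ≫ d ≫ γ.imageι ≫ WidePullback.π gb i = _
      rw [← Category.assoc d, ← Category.assoc ud, hue, WidePullback.lift_π]
    have h' := congrArg (fun f : U ⟶ Xb i => f t) h
    simp only [Scheme.Hom.comp_apply] at h'
    exact h'.symm

end Groth.Agent.H8Blow
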