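import Groth.Agent.H7Flat.Flatten.Nagata
import Mathlib

/-!
# A common proper quasi-domination of two separated schemes
-/

set_option autoImplicit false
set_option linter.style.haveILetI false
set_option backward.isDefEq.respectTransparency false
set_option maxHeartbeats 1000000

universe u

open AlgebraicGeometry CategoryTheory Limits TopologicalSpace
open Groth.Agent.H7Flat.Flatten

namespace Groth.Agent.H8Blow

/-- The preimage of an open of a proper target is a proper quasi-domination of that open. -/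
theorem exists_side_preimage {S U X X₁ Xb : Scheme.{u}} (q : X ⟶ S) [IsSeparated q] (φ : X ⟶ Xb) [IsProper φ]
    (π : Xb ⟶ S) (hφπ : φ ≫ π = q) (o : X₁ ⟶ Xb) [IsOpenImmersion o] (g₁ : X₁ ⟶ S) (ho : o ≫ π = g₁)
    (j : U ⟶ X) (j₁ : U ⟶ X₁) (hj : j ≫ φ = j₁ ≫ o) :
    ∃ (W : X.Opens) (l : U ⟶ (W : Scheme.{u})) (p : (W : Scheme.{u}) ⟶ X₁) (hp : W.ι ≫ q = p ≫ g₁),
      l ≫ W.ι = j ∧ l ≫ p = j₁ ∧ IsProper p ∧
      IsClosed (Set.range (fun x => pullback.lift W.ι p hp x)) := by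
  let W := φ ⁻¹ᵁ o.opensRange
  let p : (W : Scheme.{u}) ⟶ X₁ := (φ ∣_ o.opensRange) ≫ o.isoOpensRange.inv
  haveI : IsProper p := inferInstance
  have hpo : p ≫ o = W.ι ≫ φ := by
    rw [Category.assoc, Scheme.Hom.isoOpensRange_inv_comp, morphismRestrict_ι]
  have hp : W.ι ≫ q = p ≫ g₁ := by rw [← ho, ← Category.assoc, hpo, Category.assoc, hφπ]
  have hle : Set.range j ⊆ Set.range W.ι := by
    rw [Scheme.Opens.range_ι]
    rintro _ ⟨t, rfl⟩
    exact ⟨j₁ t, by rw [← Scheme.Hom.comp_apply, ← hj, Scheme.Hom.comp_apply]⟩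
  let l := IsOpenImmersion.lift W.ι j hle
  have hl : l ≫ W.ι = j := IsOpenImmersion.lift_fac _ _ _
  refine ⟨W, l, p, hp, hl, ?_, inferInstance, ?_⟩
  · rw [← cancel_mono o, Category.assoc, hpo, ← Category.assoc, hl, hj]
  · let G := pullback.lift W.ι p hp
    haveI : IsProper (G ≫ pullback.snd q g₁) := by rw [pullback.lift_snd]; infer_instance
    haveI : IsProper G := IsProper.of_comp G (pullback.snd q g₁)
    exact G.isClosedMap.isClosed_range

/-- Two separated schemes containing one dense open have a common proper quasi-domination. -/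
theorem exists_common_quasiDomination {S U X₁ X₂ : Scheme.{u}} [CompactSpace S] [QuasiSeparatedSpace S]
    (g₁ : X₁ ⟶ S) (g₂ : X₂ ⟶ S)
    [IsSeparated g₁] [QuasiCompact g₁] [LocallyOfFiniteType g₁]
    [IsSeparated g₂] [QuasiCompact g₂] [LocallyOfFiniteType g₂]
    (j₁ : U ⟶ X₁) (j₂ : U ⟶ X₂) [IsOpenImmersion j₁] [IsOpenImmersion j₂]
    [CompactSpace U] (h : j₁ ≫ g₁ = j₂ ≫ g₂) :
    ∃ (X : Scheme.{u}) (q : X ⟶ S) (_ : IsSeparated q) (_ : QuasiCompact q) (_ : LocallyOfFiniteType q)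
      (j : U ⟶ X) (_ : IsOpenImmersion j) (_ : IsSchemeTheoreticallyDominant j) (_ : j ≫ q = j₁ ≫ g₁),
      (∃ (W : X.Opens) (l : U ⟶ (W : Scheme.{u})) (p : (W : Scheme.{u}) ⟶ X₁) (hp : W.ι ≫ q = p ≫ g₁),
        l ≫ W.ι = j ∧ l ≫ p = j₁ ∧ IsProper p ∧
        IsClosed (Set.range (fun x => pullback.lift W.ι p hp x))) ∧
      (∃ (W : X.Opens) (l : U ⟶ (W : Scheme.{u})) (p : (W : Scheme.{u}) ⟶ X₂) (hp : W.ι ≫ q = p ≫ g₂),
        l ≫ W.ι = j ∧ l ≫ p = j₂ ∧ IsProper p ∧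
        IsClosed (Set.range (fun x => pullback.lift W.ι p hp x))) := by
  obtain ⟨Y₁, o₁, π₁, ho₁, -, hπ₁, hY₁⟩ := exists_compactification g₁
  obtain ⟨Y₂, o₂, π₂, ho₂, -, hπ₂, hY₂⟩ := exists_compactification g₂
  haveI := ho₁; haveI := ho₂; haveI := hπ₁; haveI := hπ₂
  let γ : U ⟶ pullback π₁ π₂ := pullback.lift (j₁ ≫ o₁) (j₂ ≫ o₂) (by simp [hY₁, hY₂, h])
  haveI : QuasiSeparatedSpace ↥(pullback π₁ π₂) :=
    quasiSeparatedSpace_of_quasiSeparated (pullback.fst π₁ π₂ ≫ π₁)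
  haveI : QuasiCompact γ := QuasiCompact.of_comp γ (terminal.from _)
  haveI : IsSchemeTheoreticallyDominant γ.toImage := ⟨H17.ker_toImage γ⟩
  let φ₁ := γ.imageι ≫ pullback.fst π₁ π₂
  let φ₂ := γ.imageι ≫ pullback.snd π₁ π₂
  have hu₁ : γ.toImage ≫ φ₁ = j₁ ≫ o₁ := by
    rw [← Category.assoc, γ.toImage_imageι]; exact pullback.lift_fst _ _ _
  have hu₂ : γ.toImage ≫ φ₂ = j₂ ≫ o₂ := by
    rw [← Category.assoc, γ.toImage_imageι]; exact pullback.lift_snd _ _ _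
  haveI : IsProper φ₁ := inferInstance
  haveI : IsProper φ₂ := inferInstance
  haveI : IsIso (φ₁ ∣_ (j₁ ≫ o₁).opensRange) := isIso_restrict_of_dominant γ.toImage φ₁ (j₁ ≫ o₁) hu₁ rfl
  haveI : IsOpenImmersion γ.toImage := by
    have e : γ.toImage = (j₁ ≫ o₁).isoOpensRange.hom ≫ inv (φ₁ ∣_ (j₁ ≫ o₁).opensRange) ≫
        (φ₁ ⁻¹ᵁ (j₁ ≫ o₁).opensRange).ι := by
      refine eq_of_mono_restrict φ₁ (j₁ ≫ o₁).opensRange _ _ ?_ ?_
      · rw [hu₁, Category.assoc, Category.assoc, ← morphismRestrict_ι, IsIso.inv_hom_id_assoc,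
          Scheme.Hom.isoOpensRange_hom_ι]
      · rw [hu₁]; exact subset_rfl
    rw [e]; infer_instance
  have hq : φ₂ ≫ π₂ = φ₁ ≫ π₁ := by simp only [φ₁, φ₂, Category.assoc, pullback.condition]
  exact ⟨γ.image, φ₁ ≫ π₁, inferInstance, inferInstance, inferInstance, γ.toImage, inferInstance, inferInstance,
    by rw [← Category.assoc, hu₁, Category.assoc, hY₁],
    exists_side_preimage (φ₁ ≫ π₁) φ₁ π₁ rfl o₁ g₁ hY₁ γ.toImage j₁ hu₁,
    exists_side_preimage (φ₁ ≫ π₁) φ₂ π₂ hq o₂ g₂ hY₂ γ.toImage j₂ hu₂⟩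

end Groth.Agent.H8Blow
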